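import Groth.Agent.Codim1Iso.Alg

/-!
A morphism of finite flat schemes over a Noetherian base that is an isomorphism on the fibres over
the points of codimension at most one is an isomorphism.
-/

set_option autoImplicit false
set_option linter.style.haveILetI false
universe u
open CategoryTheory AlgebraicGeometry Limits TensorProduct

namespace Groth.Agent.Codim1Iso

theorem isPullback_fromSpec {X S : Scheme.{u}} (f : X ⟶ S) [IsAffineHom f] {V : S.Opens} (hV : IsAffineOpen V) :
    IsPullback (hV.preimage f).fromSpec (Spec.map (f.app V)) f hV.fromSpec := by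
  refine (IsOpenImmersion.isPullback _ _ _ _ ?_ ?_).flip
  · rw [Scheme.Hom.app_eq_appLE]; exact (hV.SpecMap_appLE_fromSpec f (hV.preimage f) le_rfl).symm
  · rw [IsAffineOpen.opensRange_fromSpec, IsAffineOpen.opensRange_fromSpec]

variable {S X Y : Scheme.{u}} [IsLocallyNoetherian S] (f : X ⟶ S) (g : Y ⟶ S) [AlgebraicGeometry.IsFinite f]
  [AlgebraicGeometry.Flat f] [AlgebraicGeometry.IsFinite g] [AlgebraicGeometry.Flat g] (h : X ⟶ Y) (w : h ≫ g = f)

theorem isIso_of_fibres (hfib : ∀ s : S, ringKrullDim (S.presheaf.stalk s) ≤ 1 →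
      IsIso (pullback.map f (S.fromSpecResidueField s) g (S.fromSpecResidueField s) h (𝟙 _) (𝟙 S)
        ((Category.comp_id _).trans w.symm) ((Category.comp_id _).trans (Category.id_comp _).symm))) :
    IsIso h := by
  refine (IsZariskiLocalAtTarget.iff_of_iSup_eq_top (P := MorphismProperty.isomorphisms Scheme)
    (fun V : S.affineOpens => g ⁻¹ᵁ V.1)
    (by rw [← Scheme.Hom.preimage_iSup, AlgebraicGeometry.iSup_affineOpens_eq_top S, Scheme.Hom.preimage_top])).2 fun V => ?_
  obtain ⟨V, hV⟩ := V
  show IsIso (h ∣_ g ⁻¹ᵁ V)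
  let A := Γ(S, V)
  let M := Γ(X, f ⁻¹ᵁ V)
  let N := Γ(Y, g ⁻¹ᵁ V)
  have hpre : h ⁻¹ᵁ (g ⁻¹ᵁ V) = f ⁻¹ᵁ V := by rw [← Scheme.Hom.comp_preimage, w]
  let φ : N ⟶ M := h.appLE (g ⁻¹ᵁ V) (f ⁻¹ᵁ V) hpre.ge
  have hφA : g.app V ≫ φ = f.app V := by
    rw [Scheme.Hom.app_eq_appLE, Scheme.Hom.app_eq_appLE, Scheme.Hom.appLE_comp_appLE]
    subst w; rfl
  have hsq : Spec.map φ ≫ (hV.preimage g).fromSpec = (hV.preimage f).fromSpec ≫ h :=
    (hV.preimage g).SpecMap_appLE_fromSpec h (hV.preimage f) hpre.ge
  letI : Algebra A M := (f.app V).hom.toAlgebra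
  letI : Algebra A N := (g.app V).hom.toAlgebra
  let φA : N →ₐ[A] M := { φ.hom with
    commutes' := fun a => congrArg (fun k : A ⟶ M => k a) hφA }
  haveI : IsNoetherianRing A := IsLocallyNoetherian.component_noetherian ⟨V, hV⟩
  haveI : Module.Finite A M := f.finite_app V hV
  haveI : Module.Finite A N := g.finite_app V hV
  haveI : Module.Flat A M := by
    have := HasRingHomProperty.appLE @AlgebraicGeometry.Flat f inferInstance ⟨V, hV⟩ ⟨_, hV.preimage f⟩ le_rfl
    rwa [← Scheme.Hom.app_eq_appLE] at this
  haveI : Module.Flat A N := by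
    have := HasRingHomProperty.appLE @AlgebraicGeometry.Flat g inferInstance ⟨V, hV⟩ ⟨_, hV.preimage g⟩ le_rfl
    rwa [← Scheme.Hom.app_eq_appLE] at this
  haveI : Module.Projective A M := @Module.Flat.projective_of_finitePresentation A M _ _ _ inferInstance
    (Module.finitePresentation_of_finite A M)
  haveI : Module.Projective A N := @Module.Flat.projective_of_finitePresentation A N _ _ _ inferInstance
    (Module.finitePresentation_of_finite A N)
  have hbij : Function.Bijective φA.toLinearMap := bijective_of_projective φA.toLinearMap fun p hp => by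
    have hmem : hV.fromSpec p ∈ V := by
      have h0 : hV.fromSpec p ∈ Set.range hV.fromSpec := ⟨p, rfl⟩
      rwa [hV.range_fromSpec] at h0
    let s := hV.fromSpec p
    letI := TopCat.Presheaf.algebra_section_stalk S.presheaf ⟨s, hmem⟩
    haveI hloc : IsLocalization.AtPrime (S.presheaf.stalk s) p.asIdeal := hV.isLocalization_stalk' p hmem
    have hdim : ringKrullDim (S.presheaf.stalk s) ≤ 1 := by
      rw [IsLocalization.AtPrime.ringKrullDim_eq_height p.asIdeal (S.presheaf.stalk s)]
      exact_mod_cast hp
    let αK : A ⟶ S.residueField s := S.presheaf.germ V s hmem ≫ S.residue s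
    letI : Algebra A (S.residueField s) := αK.hom.toAlgebra
    refine ⟨S.residueField s, inferInstance, inferInstance, ?_, ?_⟩
    · ext a
      show IsLocalRing.residue _ (algebraMap A (S.presheaf.stalk s) a) = 0 ↔ _
      rw [IsLocalRing.residue_eq_zero_iff]
      exact IsLocalization.AtPrime.to_map_mem_maximal_iff (S.presheaf.stalk s) p.asIdeal a
    have hres : Spec.map αK ≫ hV.fromSpec = S.fromSpecResidueField s := by
      rw [Spec.map_comp, Category.assoc]
      show _ = Spec.map (S.residue s) ≫ S.fromSpecStalk s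
      rw [← hV.fromSpecStalk_eq_fromSpecStalk hmem]
      rfl
    haveI := hfib s hdim
    have PX := (IsPullback.of_hasPullback (Spec.map (f.app V)) (Spec.map αK)).paste_horiz (isPullback_fromSpec f hV)
    have PY := (IsPullback.of_hasPullback (Spec.map (g.app V)) (Spec.map αK)).paste_horiz (isPullback_fromSpec g hV)
    rw [hres] at PX PY
    let m := pullback.map (Spec.map (f.app V)) (Spec.map αK) (Spec.map (g.app V)) (Spec.map αK) (Spec.map φ) (𝟙 _) (𝟙 _)
      (by rw [Category.comp_id, ← Spec.map_comp, hφA]) (by simp)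
    haveI : IsIso m := by
      have : m = PX.isoPullback.hom ≫ pullback.map f (S.fromSpecResidueField s) g (S.fromSpecResidueField s) h (𝟙 _) (𝟙 S)
          ((Category.comp_id _).trans w.symm) ((Category.comp_id _).trans (Category.id_comp _).symm) ≫
          PY.isoPullback.inv := by
        rw [← Category.assoc, Iso.eq_comp_inv]
        apply pullback.hom_ext
        · simp only [m, pullback.map, Category.assoc, IsPullback.isoPullback_hom_fst]
          erw [pullback.lift_fst_assoc, pullback.lift_fst, IsPullback.isoPullback_hom_fst_assoc]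
          simp [hsq]
        · simp only [m, pullback.map, Category.assoc, IsPullback.isoPullback_hom_snd]
          erw [pullback.lift_snd, pullback.lift_snd, IsPullback.isoPullback_hom_snd_assoc]
      rw [this]; infer_instance
    let ψ := Algebra.TensorProduct.map φA (AlgHom.id A (S.residueField s))
    let eM : pullback (Spec.map (f.app V)) (Spec.map αK) ≅ Spec (.of (M ⊗[A] S.residueField s)) :=
      pullbackSpecIso A M (S.residueField s)
    let eN : pullback (Spec.map (g.app V)) (Spec.map αK) ≅ Spec (.of (N ⊗[A] S.residueField s)) :=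
      pullbackSpecIso A N (S.residueField s)
    have hM1 : eM.inv ≫ pullback.fst _ _ = Spec.map (CommRingCat.ofHom Algebra.TensorProduct.includeLeftRingHom) :=
      pullbackSpecIso_inv_fst ..
    have hN1 : eN.inv ≫ pullback.fst _ _ = Spec.map (CommRingCat.ofHom Algebra.TensorProduct.includeLeftRingHom) :=
      pullbackSpecIso_inv_fst ..
    have hM2 : eM.inv ≫ pullback.snd _ _ = Spec.map (CommRingCat.ofHom (RingHomClass.toRingHom
        (Algebra.TensorProduct.includeRight (R := A) (A := M) (B := S.residueField s)))) :=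
      pullbackSpecIso_inv_snd ..
    have hN2 : eN.inv ≫ pullback.snd _ _ = Spec.map (CommRingCat.ofHom (RingHomClass.toRingHom
        (Algebra.TensorProduct.includeRight (R := A) (A := N) (B := S.residueField s)))) :=
      pullbackSpecIso_inv_snd ..
    have hm : eM.inv ≫ m = Spec.map (CommRingCat.ofHom ψ.toRingHom) ≫ eN.inv := by
      refine pullback.hom_ext ?_ ?_
      · simp only [m, pullback.map, Category.assoc, pullback.lift_fst]
        rw [reassoc_of% hM1, hN1, ← Spec.map_comp, ← Spec.map_comp]
        congr 1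
      · simp only [m, pullback.map, Category.assoc, pullback.lift_snd, Category.comp_id]
        rw [hM2, hN2, ← Spec.map_comp]
        congr 1
        ext n
        simp [ψ]
    have hiso : IsIso (Spec.map (CommRingCat.ofHom ψ.toRingHom)) := by
      rw [show Spec.map (CommRingCat.ofHom ψ.toRingHom) = (eM.inv ≫ m) ≫ eN.hom by
        rw [hm, Category.assoc, Iso.inv_hom_id]; exact (Category.comp_id _).symm]
      infer_instance
    have hψ : Function.Bijective ψ := isIso_SpecMap_iff.1 hiso
    have hfac : ⇑(φA.toLinearMap.baseChange (S.residueField s)) =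
        Algebra.TensorProduct.comm A M (S.residueField s) ∘ ψ ∘ Algebra.TensorProduct.comm A (S.residueField s) N := by
      funext z
      induction z using TensorProduct.induction_on with
      | zero => simp
      | tmul k n => simp [ψ]
      | add a b ha hb => simp only [Function.comp_apply, map_add] at ha hb ⊢; rw [ha, hb]
    rw [hfac]
    exact ((Algebra.TensorProduct.comm A M _).bijective.comp hψ).comp (Algebra.TensorProduct.comm A _ N).bijective
  haveI : IsIso (Spec.map φ) := isIso_SpecMap_iff.2 hbij
  have hW : IsAffineOpen (h ⁻¹ᵁ (g ⁻¹ᵁ V)) := hpre ▸ hV.preimage f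
  have hfac : h ∣_ g ⁻¹ᵁ V = (X.isoOfEq hpre).hom ≫ (hV.preimage f).isoSpec.hom ≫ Spec.map φ ≫ (hV.preimage g).isoSpec.inv := by
    rw [← cancel_mono (g ⁻¹ᵁ V).ι, morphismRestrict_ι]
    simp only [Category.assoc, IsAffineOpen.isoSpec_inv_ι, hsq]
    rw [IsAffineOpen.isoSpec_hom_fromSpec_assoc, Scheme.isoOfEq_hom_ι_assoc]
  rw [hfac]
  infer_instance

end Groth.Agent.Codim1Iso
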