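import Mathlib

/-!
A map of finite projective modules over a Noetherian ring that is bijective on the fibres at the
primes of height at most one is bijective.
-/

set_option autoImplicit false
set_option linter.style.haveILetI false
universe u
open TensorProduct

namespace Groth.Agent.Codim1Iso

theorem bijective_of_free {A : Type u} [CommRing A] [IsLocalRing A] [IsNoetherianRing A] {M N : Type u}
    [AddCommGroup M] [Module A M] [Module.Free A M] [Module.Finite A M]
    [AddCommGroup N] [Module A N] [Module.Free A N] [Module.Finite A N] (φ : M →ₗ[A] N)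
    (h : ∀ p : PrimeSpectrum A, p.asIdeal.height ≤ 1 →
      ∃ (K : Type u) (_ : Field K) (_ : Algebra A K), RingHom.ker (algebraMap A K) = p.asIdeal ∧
        Function.Bijective (φ.baseChange K)) :
    Function.Bijective φ := by
  classical
  let bM := Module.Free.chooseBasis A M
  let bN := Module.Free.chooseBasis A N
  obtain ⟨q, hq, -⟩ := Ideal.exists_minimalPrimes_le (I := (⊥ : Ideal A)) (J := IsLocalRing.maximalIdeal A) bot_le
  haveI := hq.1.1
  have hq0 : q.height ≤ 1 := by
    rw [Ideal.height_eq_zero_iff.2 hq]; exact zero_le_one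
  obtain ⟨K, _, _, -, hbij⟩ := h ⟨q, hq.1.1⟩ hq0
  have hcard : Fintype.card (Module.Free.ChooseBasisIndex A M) = Fintype.card (Module.Free.ChooseBasisIndex A N) := by
    rw [← Module.finrank_eq_card_chooseBasisIndex, ← Module.finrank_eq_card_chooseBasisIndex,
      ← Module.finrank_baseChange (R := K) (S := A) (M' := M), ← Module.finrank_baseChange (R := K) (S := A) (M' := N)]
    exact (LinearEquiv.ofBijective _ hbij).finrank_eq
  let e := Fintype.equivOfCardEq hcard
  let bM' := bM.reindex e
  let T := LinearMap.toMatrix bM' bN φ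
  have hdet : IsUnit T.det := by
    by_contra hd
    have hne : Ideal.span {T.det} ≠ ⊤ := fun ht => hd (Ideal.span_singleton_eq_top.1 ht)
    obtain ⟨p, hp⟩ := Ideal.nonempty_minimalPrimes hne
    haveI := hp.1.1
    obtain ⟨K, _, _, hK, hbij⟩ := h ⟨p, hp.1.1⟩ (Ideal.height_le_one_of_isPrincipal_of_mem_minimalPrimes (Ideal.span {T.det}) p hp)
    have hdm : algebraMap A K T.det = 0 := by
      rw [← RingHom.mem_ker, hK]
      exact hp.1.2 (Ideal.mem_span_singleton_self _)
    let eK := LinearEquiv.ofBijective (φ.baseChange K) hbij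
    have hu := eK.isUnit_det (Algebra.TensorProduct.basis K bM') (Algebra.TensorProduct.basis K bN)
    have hmat : LinearMap.toMatrix (Algebra.TensorProduct.basis K bM') (Algebra.TensorProduct.basis K bN) (eK : _ →ₗ[K] _) =
        T.map (algebraMap A K) := by
      rw [show (eK : K ⊗[A] M →ₗ[K] K ⊗[A] N) = φ.baseChange K from rfl, LinearMap.toMatrix_baseChange]
    rw [hmat, ← RingHom.mapMatrix_apply, ← RingHom.map_det, hdm] at hu
    exact not_isUnit_zero hu
  have := (LinearEquiv.ofIsUnitDet (f := φ) (v := bM') (v' := bN) hdet).bijective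
  exact this

theorem bijective_of_projective {A : Type u} [CommRing A] [IsNoetherianRing A] {M N : Type u}
    [AddCommGroup M] [Module A M] [Module.Projective A M] [Module.Finite A M]
    [AddCommGroup N] [Module A N] [Module.Projective A N] [Module.Finite A N] (φ : M →ₗ[A] N)
    (h : ∀ p : PrimeSpectrum A, p.asIdeal.height ≤ 1 →
      ∃ (K : Type u) (_ : Field K) (_ : Algebra A K), RingHom.ker (algebraMap A K) = p.asIdeal ∧
        Function.Bijective (φ.baseChange K)) :
    Function.Bijective φ := by
  refine bijective_of_isLocalized_maximal (fun P _ => Localization.AtPrime P ⊗[A] M)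
    (fun P _ => TensorProduct.mk A (Localization.AtPrime P) M 1) (fun P _ => Localization.AtPrime P ⊗[A] N)
    (fun P _ => TensorProduct.mk A (Localization.AtPrime P) N 1) φ fun P _ => ?_
  let L := Localization.AtPrime P
  have hmap : IsLocalizedModule.map P.primeCompl (TensorProduct.mk A L M 1) (TensorProduct.mk A L N 1) φ =
      (φ.baseChange L).restrictScalars A := by
    refine IsLocalizedModule.linearMap_ext P.primeCompl (TensorProduct.mk A L M 1) (TensorProduct.mk A L N 1) ?_
    ext m
    exact IsLocalizedModule.map_apply P.primeCompl (TensorProduct.mk A L M 1) (TensorProduct.mk A L N 1) φ m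
  rw [hmap]
  show Function.Bijective (φ.baseChange L)
  haveI : Module.Free L (L ⊗[A] M) := Module.free_of_flat_of_isLocalRing
  haveI : Module.Free L (L ⊗[A] N) := Module.free_of_flat_of_isLocalRing
  refine bijective_of_free (φ.baseChange L) fun q hq => ?_
  let p : PrimeSpectrum A := ⟨q.asIdeal.comap (algebraMap A L), inferInstance⟩
  have hp : p.asIdeal.height ≤ 1 := (IsLocalization.height_under P.primeCompl q.asIdeal).trans_le hq
  obtain ⟨K, fK, aK, hK, hbij⟩ := h p hp
  have hu : ∀ s : P.primeCompl, IsUnit (algebraMap A K s) := fun s => IsUnit.mk0 _ fun h0 => by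
    have hsp : (s : A) ∈ p.asIdeal := by rw [← hK]; exact h0
    exact q.isPrime.ne_top (Ideal.eq_top_of_isUnit_mem _ hsp (IsLocalization.map_units L s))
  let ψ : L →+* K := IsLocalization.lift hu
  letI : Algebra L K := ψ.toAlgebra
  haveI : IsScalarTower A L K := IsScalarTower.of_algebraMap_eq fun a => (IsLocalization.lift_eq hu a).symm
  refine ⟨K, fK, inferInstance, ?_, ?_⟩
  · ext z
    obtain ⟨a, s, rfl⟩ := IsLocalization.exists_mk'_eq P.primeCompl z
    show ψ (IsLocalization.mk' L a s) = 0 ↔ _
    rw [IsLocalization.lift_mk'_spec, mul_zero, IsLocalization.mk'_mem_iff, ← Ideal.mem_comap]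
    show algebraMap A K a = 0 ↔ a ∈ p.asIdeal
    rw [← hK]; rfl
  · let eM : K ⊗[L] (L ⊗[A] M) ≃ₗ[K] K ⊗[A] M := AlgebraTensorModule.cancelBaseChange A L K K M
    let eN : K ⊗[L] (L ⊗[A] N) ≃ₗ[K] K ⊗[A] N := AlgebraTensorModule.cancelBaseChange A L K K N
    have : (φ.baseChange L).baseChange K = eN.symm.toLinearMap ∘ₗ φ.baseChange K ∘ₗ eM.toLinearMap := by
      ext m
      simp [eM, eN]
    rw [this]
    exact (eN.symm.bijective.comp hbij).comp eM.bijective

end Groth.Agent.Codim1Iso
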